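import Groth.Agent.Lib.FittSheaf.Basic
import Groth.Agent.Lib.Fitting.Support
import Groth.Agent.Lib.QCoh.LocGenCases
import Groth.Agent.Lib.QCoh.Support
import Mathlib.AlgebraicGeometry.Morphisms.FinitePresentation

/-! # Supports of finitely presented modules and retrocompact opens -/

set_option autoImplicit false
set_option linter.style.haveILetI false
set_option backward.isDefEq.respectTransparency false
universe u

noncomputable section

open CategoryTheory AlgebraicGeometry Opposite TopologicalSpace Topology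

namespace GrothLib.IsoOpen28

variable {X : Scheme.{u}}

/-- The complement of a retrocompact open is locally constructible. -/
theorem isLocallyConstructible_compl (W : X.Opens) [QuasiCompact W.ι] :
    IsLocallyConstructible ((W : Set X)ᶜ) := by
  intro x
  obtain ⟨U, hU, hxU, -⟩ := exists_isAffineOpen_mem_and_subset (x := x) (U := ⊤) trivial
  refine ⟨U, U.2.mem_nhds hxU, U.2, ?_⟩
  rw [Set.preimage_compl]
  refine isConstructible_compl.2 ?_
  haveI : CompactSpace U := isCompact_iff_compactSpace.mp hU.isCompact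
  haveI : QuasiSeparatedSpace (U : Set X) := by
    haveI : IsAffine (U : Scheme.{u}) := hU
    exact inferInstanceAs (QuasiSeparatedSpace (U : Scheme.{u}))
  have ho : IsOpen ((Subtype.val : U → X) ⁻¹' (W : Set X)) := W.2.preimage continuous_subtype_val
  refine IsCompact.isConstructible ?_ ho
  refine Topology.IsInducing.subtypeVal.isCompact_iff.2 ?_
  have hc := (QuasiCompact.isCompact_preimage (f := W.ι) (U : Set X) U.2 hU.isCompact).image W.ι.continuous
  rw [Set.image_preimage_eq_inter_range, Scheme.Opens.range_ι] at hc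
  convert hc using 1
  exact Subtype.image_preimage_coe _ _

/-- The stalk of a finite type module vanishes exactly off the zeroth Fitting ideal. -/
theorem subsingleton_stalk_iff {M : X.Modules} [M.IsQuasicoherent] (hM : CohB1.IsFT M) (x : X) :
    Subsingleton (M.presheaf.stalk x) ↔ x ∉ (Fitt.sheafIdeal M 0).support := by
  obtain ⟨U, hU, hx, -⟩ := exists_isAffineOpen_mem_and_subset (x := x) (U := ⊤) trivial
  rw [FittSheaf.notMem_support_iff_not_le hM 0 ⟨U, hU⟩ hx]
  let R := X.presheaf.stalk x
  haveI := FittSheaf.finite_stalk hM x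
  letI := X.presheaf.algebra_section_stalk ⟨x, hx⟩
  haveI := FlatFP.isLocalization_stalk_primeAt hU hx
  have h1 : Fitt.ideal R (M.presheaf.stalk x) 0 =
      (Fitt.ideal Γ(X, U) Γ(M, U) 0).map (X.presheaf.germ U x hx).hom :=
    ((FittSheaf.map_germ_sheafIdeal hM 0 ⟨U, hU⟩ hx).symm.trans (by rw [FittSheaf.sheafIdeal_ideal hM]))
  have h2 : (Fitt.ideal R (M.presheaf.stalk x) 0 = ⊤) ↔ ¬ Fitt.ideal Γ(X, U) Γ(M, U) 0 ≤ WeakAss.primeAt x hx := by
    rw [h1]
    constructor
    · intro htop hle
      refine (IsLocalRing.maximalIdeal.isMaximal R).ne_top (top_le_iff.1 (htop.symm.le.trans ?_))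
      rw [← IsLocalization.AtPrime.map_eq_maximalIdeal (WeakAss.primeAt x hx) R]
      exact Ideal.map_mono hle
    · intro h
      obtain ⟨r, hr, hrp⟩ := SetLike.not_le_iff_exists.1 h
      exact Ideal.eq_top_of_isUnit_mem _ (Ideal.mem_map_of_mem _ hr)
        (IsLocalization.map_units R (⟨r, hrp⟩ : (WeakAss.primeAt x hx).primeCompl))
  rw [← h2, ← not_iff_not, not_subsingleton_iff_nontrivial]
  have h3 : IsLocalRing.closedPoint R ∈ Module.support R (M.presheaf.stalk x) ↔
      Nontrivial (M.presheaf.stalk x) :=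
    ⟨fun h => Module.nonempty_support_iff.1 ⟨_, h⟩, fun h => Module.mem_support_iff_of_finite.2 (by
      refine IsLocalRing.le_maximalIdeal fun ha => ?_
      exact not_subsingleton _ (Module.annihilator_eq_top_iff.1 ha))⟩
  rw [← h3, ← Fitting.zeroLocus_ideal_zero, PrimeSpectrum.mem_zeroLocus, SetLike.coe_subset_coe]
  exact ⟨fun h htop => IsLocalRing.maximalIdeal.isMaximal R |>.ne_top (top_le_iff.1 (htop ▸ h)),
    fun h => IsLocalRing.le_maximalIdeal h⟩

/-- The vanishing locus of a finitely presented module is open and retrocompact. -/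
theorem exists_opens_subsingleton_stalk {M : X.Modules} [M.IsQuasicoherent] (hM : CohB1.IsFP M) :
    ∃ W : X.Opens, QuasiCompact W.ι ∧ ∀ x, x ∈ W ↔ Subsingleton (M.presheaf.stalk x) := by
  haveI : CohB1.IsFP M := hM
  have hFT : CohB1.IsFT M := inferInstance
  let I := Fitt.sheafIdeal M 0
  let W : X.Opens := ⟨(I.support : Set X)ᶜ, I.support.isClosed.isOpen_compl⟩
  refine ⟨W, QCoh.quasiCompact_ι_of_forall W fun V hV => ?_, fun x => (subsingleton_stalk_iff hFT x).symm⟩
  haveI := FlatFP.finitePresentation_sections M hM hV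
  obtain ⟨s, hs⟩ := Fitting.ideal_fg (R := Γ(X, V)) (M := Γ(M, V)) 0
  have e : ((V ⊓ W : X.Opens) : Set X) = ⋃ r ∈ s, (X.basicOpen r : Set X) := by
    ext y
    constructor
    · rintro ⟨hyV, hyW⟩
      have h := (FittSheaf.notMem_support_iff_not_le hFT 0 ⟨V, hV⟩ hyV).1 hyW
      rw [← hs] at h
      obtain ⟨r, hr, hry⟩ : ∃ r ∈ s, r ∉ WeakAss.primeAt y hyV := by
        by_contra! h'
        exact h (Ideal.span_le.2 fun r hr => h' r hr)
      exact Set.mem_iUnion₂.2 ⟨r, hr, WeakAss.notMem_primeAt_iff.1 hry⟩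
    · intro hy
      obtain ⟨r, hr, hry⟩ := Set.mem_iUnion₂.1 hy
      have hyV : y ∈ V := X.basicOpen_le r hry
      refine ⟨hyV, (FittSheaf.notMem_support_iff_not_le hFT 0 ⟨V, hV⟩ hyV).2 fun h => ?_⟩
      exact (WeakAss.notMem_primeAt_iff (hx := hyV)).2 hry (h (hs ▸ Ideal.subset_span hr))
  rw [e]
  exact s.finite_toSet.isCompact_biUnion fun r _ => (hV.basicOpen r).isCompact

end GrothLib.IsoOpen28
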