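import Groth.Agent.Lib.IsoOpen28.Support
import Groth.Agent.Lib.FunFlat6.Sheaf
import Groth.Agent.Lib.FunFlat6.Vanish
import Groth.Agent.Lib.FlatFP.InjCokerSheaf
import Groth.Agent.Lib.GrowthBd20.Fibre
import Groth.Agent.Lib.QCoh.SupportPullback
import Groth.Agent.Lib.FibTriv28.IsoLocus

/-! # The open locus where a map onto a flat module becomes an isomorphism -/

set_option autoImplicit false
set_option linter.style.haveILetI false
set_option backward.isDefEq.respectTransparency false
set_option maxHeartbeats 1000000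
universe u

noncomputable section

open CategoryTheory CategoryTheory.Limits AlgebraicGeometry Opposite TopologicalSpace Topology

namespace GrothLib.IsoOpen28

theorem isIso_stalk_pullback {Y Z : Scheme.{u}} (h : Z ⟶ Y) {M N : Y.Modules} (v : M ⟶ N) (z : Z)
    (hv : IsIso ((OX.stalk (h z)).map v)) : IsIso ((OX.stalk z).map ((Scheme.Modules.pullback h).map v)) := by
  rw [FunFlat6.stalk_pullback_map_eq]
  infer_instance

theorem isIso_stalk_of_flat {Y Z : Scheme.{u}} (h : Z ⟶ Y) [Flat h] {M N : Y.Modules} (v : M ⟶ N) (z : Z)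
    (hv : IsIso ((OX.stalk z).map ((Scheme.Modules.pullback h).map v))) : IsIso ((OX.stalk (h z)).map v) := by
  haveI : Mono ((OX.stalk (h z)).map v) := (FunFlat6.stalk_mono_pullback_iff h v z).1 inferInstance
  haveI : Epi ((OX.stalk (h z)).map v) := (FunFlat6.stalk_epi_pullback_iff h v z).1 inferInstance
  exact isIso_of_mono_of_epi _

theorem isIso_pullback_comp_iff {X Y Z : Scheme.{u}} (a : Z ⟶ Y) (b : Y ⟶ X) {F G : X.Modules} (v : F ⟶ G) :
    IsIso ((Scheme.Modules.pullback a).map ((Scheme.Modules.pullback b).map v)) ↔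
      IsIso ((Scheme.Modules.pullback (a ≫ b)).map v) :=
  NatIso.isIso_map_iff (Scheme.Modules.pullbackComp a b) v

theorem fibre_injective {X S : Scheme.{u}} (f : X ⟶ S) [LocallyOfFinitePresentation f] {F G : X.Modules}
    [F.IsQuasicoherent] [G.IsQuasicoherent] (hF : CohB1.IsFP F) (hG : CohB1.IsFP G)
    (hfl : FlatMod.IsFlatOver f G) (p : F ⟶ G) [Epi p] (s : S)
    (h : IsIso ((Scheme.Modules.pullback (f.fiberι s)).map p)) (x : X) (hx : f x = s) :
    Subsingleton ((kernel p).presheaf.stalk x) := by
  haveI := QCoh.isQuasicoherent_kernel p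
  let S' : ShortComplex X.Modules := ShortComplex.mk (kernel.ι p) p (kernel.condition p)
  have hS : S'.ShortExact := { exact := ShortComplex.exact_kernel p }
  haveI : (Scheme.Modules.pullback (f.fiberι s)).IsLeftAdjoint :=
    (Scheme.Modules.pullbackPushforwardAdjunction (f.fiberι s)).isLeftAdjoint
  haveI : PreservesColimitsOfSize.{0, 0} (Scheme.Modules.pullback (f.fiberι s)) :=
    (Scheme.Modules.pullbackPushforwardAdjunction (f.fiberι s)).leftAdjoint_preservesColimits
  have hS' := GrowthBd.shortExact_fibre f s hS fun y _ => hfl y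
  haveI : Mono ((Scheme.Modules.pullback (f.fiberι s)).map (kernel.ι p)) := hS'.mono_f
  have hzero : IsZero ((Scheme.Modules.pullback (f.fiberι s)).obj (kernel p)) := by
    have e : (Scheme.Modules.pullback (f.fiberι s)).map (kernel.ι p) = 0 := by
      haveI := h
      rw [← cancel_mono ((Scheme.Modules.pullback (f.fiberι s)).map p), zero_comp, ← Functor.map_comp,
        kernel.condition]
      haveI : (Scheme.Modules.pullback (f.fiberι s)).Additive := Functor.additive_of_preserves_binary_products _
      exact Functor.map_zero _ _ _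
    rw [IsZero.iff_id_eq_zero, ← cancel_mono ((Scheme.Modules.pullback (f.fiberι s)).map (kernel.ι p)), e]
    simp
  have hK : Coh.IsCoh (kernel p) := by
    haveI : CohB1.IsFP (kernel p) := FlatFP.isFP_kernel f F G hF hG hfl p
    exact ⟨inferInstance, inferInstance⟩
  obtain ⟨z, rfl⟩ := (f.range_fiberι s).symm.le (show x ∈ f ⁻¹' {s} from hx)
  by_contra hne
  have hz : z ∈ CohB1.support ((Scheme.Modules.pullback (f.fiberι s)).obj (kernel p)) := by
    rw [QCoh.support_pullback _ _ hK]
    exact hne
  exact hz (ModuleCat.isZero_iff_subsingleton.1 ((OX.stalk z).map_isZero hzero))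

variable {X S : Scheme.{u}} (f : X ⟶ S) [LocallyOfFinitePresentation f] {F G : X.Modules}
  [F.IsQuasicoherent] [G.IsQuasicoherent] (hF : CohB1.IsFP F) (hG : CohB1.IsFP G)
  (hfl : FlatMod.IsFlatOver f G) (u : F ⟶ G)

include hF hG hfl in
/-- Where the base changes are isomorphisms, in terms of stalks. -/
theorem exists_opens_isIso_stalk :
    ∃ V : X.Opens, IsLocallyConstructible ((V : Set X)ᶜ) ∧
      (∀ x, x ∈ V → IsIso ((OX.stalk x).map u)) ∧
      ∀ {T : Scheme.{u}} (t : T ⟶ S), IsIso ((Scheme.Modules.pullback (pullback.fst f t)).map u) →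
        ∀ z : (pullback f t : Scheme.{u}), pullback.fst f t z ∈ V := by
  classical
  haveI := QCoh.isQuasicoherent_cokernel u
  obtain ⟨W₁, hW₁, hmem₁⟩ := exists_opens_subsingleton_stalk (FlatFP.isFP_cokernel u hG hF)
  haveI := hW₁
  let j : (W₁ : Scheme.{u}) ⟶ X := W₁.ι
  let F' := (Scheme.Modules.pullback j).obj F
  let G' := (Scheme.Modules.pullback j).obj G
  let u' : F' ⟶ G' := (Scheme.Modules.pullback j).map u
  haveI : F'.IsQuasicoherent := FittSheaf.isQuasicoherent_pullback j F
  haveI : G'.IsQuasicoherent := FittSheaf.isQuasicoherent_pullback j G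
  have hGft : CohB1.IsFT G := by
    haveI : CohB1.IsFP G := hG
    infer_instance
  haveI : Epi u' := (FunFlat6.epi_pullback_iff_forall j hGft u).2 fun w hw => hw ((hmem₁ _).1 w.2)
  let f' : (W₁ : Scheme.{u}) ⟶ S := j ≫ f
  haveI : LocallyOfFinitePresentation f' := inferInstanceAs (LocallyOfFinitePresentation (W₁.ι ≫ f))
  have hfl' : FlatMod.IsFlatOver f' G' :=
    fun w => (FlatDesc.isFlatOverAt_comp_pullback_iff j f G w).2 (hfl (j w))
  have hF' := FittSheaf.isFP_pullback j F hF
  have hG' := FittSheaf.isFP_pullback j G hG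
  haveI := QCoh.isQuasicoherent_kernel u'
  obtain ⟨W₂, hW₂, hmem₂⟩ := exists_opens_subsingleton_stalk (FlatFP.isFP_kernel f' F' G' hF' hG' hfl' u')
  haveI := hW₂
  let V : X.Opens := j ''ᵁ W₂
  haveI : QuasiCompact V.ι := by
    have hV : Set.range V.ι = Set.range (W₂.ι ≫ j) := by
      rw [Scheme.Opens.range_ι]
      show j.base '' (W₂ : Set _) = Set.range ⇑(W₂.ι ≫ j)
      rw [Scheme.Hom.comp_base, TopCat.coe_comp, Set.range_comp, Scheme.Opens.range_ι]
    rw [← IsOpenImmersion.isoOfRangeEq_hom_fac V.ι (W₂.ι ≫ j) hV]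
    infer_instance
  refine ⟨V, isLocallyConstructible_compl V, ?_, ?_⟩
  · rintro _ ⟨w, hw, rfl⟩
    refine isIso_stalk_of_flat j u w ?_
    haveI : Mono ((OX.stalk w).map u') := by
      have hS : (ShortComplex.mk (kernel.ι u') u' (kernel.condition u')).ShortExact :=
        { exact := ShortComplex.exact_kernel u' }
      have hex := (OX.exact_iff _).1 hS.exact w
      refine hex.mono_g ((ModuleCat.isZero_iff_subsingleton.2 ((hmem₂ w).1 hw)).eq_of_src _ _)
    haveI : Epi ((OX.stalk w).map u') := (OX.epi_iff u').1 inferInstance w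
    exact isIso_of_mono_of_epi _
  · intro T t hiso z
    let x := pullback.fst f t z
    have hx₁ : x ∈ W₁ := (hmem₁ x).2 (not_not.1 ((FunFlat6.epi_pullback_iff_forall _ hGft u).1
      (by haveI := hiso; infer_instance) z))
    let w : (W₁ : Scheme.{u}) := ⟨x, hx₁⟩
    refine ⟨w, (hmem₂ w).2 ?_, rfl⟩
    let t' := pullback.snd f t z
    have hs : f' w = t t' := by
      show f x = t t'
      rw [← Scheme.Hom.comp_apply, pullback.condition, Scheme.Hom.comp_apply]
    refine fibre_injective f' hF' hG' hfl' u' (t t') ?_ w hs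
    let a : Spec (T.residueField t') ⟶ Spec (S.residueField (t t')) := Spec.map (t.residueFieldMap t')
    haveI : Flat a := by
      letI := (t.residueFieldMap t').hom.toAlgebra
      refine (HasRingHomProperty.Spec_iff (P := @Flat)).2 ?_
      exact (inferInstance : Module.Flat (S.residueField (t t')) (T.residueField t'))
    haveI : Surjective a := ⟨fun q => ⟨IsLocalRing.closedPoint _, Subsingleton.elim _ _⟩⟩
    let fs := f'.fiberToSpecResidueField (t t')
    let h : pullback fs a ⟶ f'.fiber (t t') := pullback.fst fs a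
    haveI : Flat h := inferInstance
    haveI : Surjective h := inferInstance
    let c : pullback fs a ⟶ (pullback f t : Scheme.{u}) :=
      pullback.lift (h ≫ f'.fiberι (t t') ≫ j) (pullback.snd fs a ≫ T.fromSpecResidueField t') (by
        have h1 : f'.fiberι (t t') ≫ j ≫ f = fs ≫ S.fromSpecResidueField (t t') := f'.fiber_fac (t t')
        rw [Category.assoc, Category.assoc, h1, ← Category.assoc, pullback.condition, Category.assoc,
          Category.assoc]
        exact congrArg (_ ≫ ·) (t.SpecMap_residueFieldMap_fromSpecResidueField t'))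
    have hc : IsIso ((Scheme.Modules.pullback h).map
        ((Scheme.Modules.pullback (f'.fiberι (t t'))).map u')) := by
      show IsIso ((Scheme.Modules.pullback h).map
        ((Scheme.Modules.pullback (f'.fiberι (t t'))).map ((Scheme.Modules.pullback j).map u)))
      rw [isIso_pullback_comp_iff, isIso_pullback_comp_iff]
      have e : (h ≫ f'.fiberι (t t')) ≫ j = c ≫ pullback.fst f t := by
        rw [Category.assoc, pullback.lift_fst]
      rw [e, ← isIso_pullback_comp_iff]
      haveI := hiso
      infer_instance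
    refine (OX.isIso_iff _).2 fun q => ?_
    obtain ⟨q', rfl⟩ := h.surjective q
    exact isIso_stalk_of_flat h _ q' ((OX.isIso_iff _).1 hc q')

include hF hG hfl in
/-- **The iso locus is represented by a retrocompact open.** -/
theorem exists_iso_opens [IsProper f] :
    ∃ U : S.Opens, QuasiCompact U.ι ∧ ∀ (T : Scheme.{u}) (t : T ⟶ S),
      IsIso ((Scheme.Modules.pullback (pullback.fst f t)).map u) ↔ Set.range t.base ⊆ (U : Set S) := by
  obtain ⟨V, hV, hin, hout⟩ := exists_opens_isIso_stalk f hF hG hfl u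
  have hcl : IsClosed (f '' ((V : Set X)ᶜ)) := f.isClosedMap _ V.2.isClosed_compl
  let U : S.Opens := ⟨(f '' ((V : Set X)ᶜ))ᶜ, hcl.isOpen_compl⟩
  have hUc : IsLocallyConstructible ((U : Set S)ᶜ) := by
    show IsLocallyConstructible (f '' ((V : Set X)ᶜ))ᶜᶜ
    rw [compl_compl]
    exact f.isLocallyConstructible_image hV
  refine ⟨U, FibTriv28.quasiCompact_ι_of_isLocallyConstructible U hUc, fun T t => ⟨fun h => ?_, fun h => ?_⟩⟩
  · rintro _ ⟨t', rfl⟩ ⟨x, hx, hxt⟩
    obtain ⟨z, hz, -⟩ := Scheme.Pullback.exists_preimage_pullback x t' hxt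
    exact hx (hz ▸ hout t h z)
  · refine (OX.isIso_iff _).2 fun z => isIso_stalk_pullback _ u z (hin _ ?_)
    by_contra hne
    refine h ⟨pullback.snd f t z, rfl⟩ ⟨_, hne, ?_⟩
    rw [← Scheme.Hom.comp_apply, pullback.condition, Scheme.Hom.comp_apply]

end GrothLib.IsoOpen28
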